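import Cfsg.Agent.Lib.Helper16.B54.Defs

set_option autoImplicit false

namespace Cfsg.Agent.Lib.Helper16.B54

theorem M2_form : ∀ a : M54, a = X0 ^ a.i.val * Y0 ^ a.j.val * C0 ^ a.k.val * D0 ^ a.l.val := by
  decide +kernel

/-- [M2] -/
theorem closure_gens : Subgroup.closure ({X0, Y0, C0, D0} : Set M54) = ⊤ := by
  rw [eq_top_iff]
  intro a _
  rw [M2_form a]
  have hx : X0 ∈ Subgroup.closure ({X0, Y0, C0, D0} : Set M54) := Subgroup.subset_closure (by simp)
  have hy : Y0 ∈ Subgroup.closure ({X0, Y0, C0, D0} : Set M54) := Subgroup.subset_closure (by simp)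
  have hc : C0 ∈ Subgroup.closure ({X0, Y0, C0, D0} : Set M54) := Subgroup.subset_closure (by simp)
  have hd : D0 ∈ Subgroup.closure ({X0, Y0, C0, D0} : Set M54) := Subgroup.subset_closure (by simp)
  exact Subgroup.mul_mem _ (Subgroup.mul_mem _ (Subgroup.mul_mem _ (Subgroup.pow_mem _ hx _)
    (Subgroup.pow_mem _ hy _)) (Subgroup.pow_mem _ hc _)) (Subgroup.pow_mem _ hd _)

end Cfsg.Agent.Lib.Helper16.B54
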