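import Cfsg.Agent.Lib.Helper16.B54.M2

set_option autoImplicit false

namespace Cfsg.Agent.Lib.Helper16.B54

/-- [M3] -/
theorem closure_invol : Subgroup.closure {t : M54 | t * t = 1 ∧ t ≠ 1} = ⊤ := by
  rw [eq_top_iff, ← closure_gens, Subgroup.closure_le]
  have hd : D0 ∈ Subgroup.closure {t : M54 | t * t = 1 ∧ t ≠ 1} :=
    Subgroup.subset_closure ⟨by decide +kernel, by decide +kernel⟩
  have hdx : D0 * X0 ∈ Subgroup.closure {t : M54 | t * t = 1 ∧ t ≠ 1} :=
    Subgroup.subset_closure ⟨by decide +kernel, by decide +kernel⟩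
  have hdy : D0 * Y0 ∈ Subgroup.closure {t : M54 | t * t = 1 ∧ t ≠ 1} :=
    Subgroup.subset_closure ⟨by decide +kernel, by decide +kernel⟩
  have hx : X0 ∈ Subgroup.closure {t : M54 | t * t = 1 ∧ t ≠ 1} := by
    have : X0 = D0 * (D0 * X0) := by decide +kernel
    rw [this]; exact Subgroup.mul_mem _ hd hdx
  have hy : Y0 ∈ Subgroup.closure {t : M54 | t * t = 1 ∧ t ≠ 1} := by
    have : Y0 = D0 * (D0 * Y0) := by decide +kernel
    rw [this]; exact Subgroup.mul_mem _ hd hdy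
  have hc : C0 ∈ Subgroup.closure {t : M54 | t * t = 1 ∧ t ≠ 1} := by
    have : C0 = X0⁻¹ * Y0⁻¹ * X0 * Y0 := by decide +kernel
    rw [this]
    exact Subgroup.mul_mem _ (Subgroup.mul_mem _ (Subgroup.mul_mem _ (Subgroup.inv_mem _ hx)
      (Subgroup.inv_mem _ hy)) hx) hy
  rintro t (rfl | rfl | rfl | rfl)
  · exact hx
  · exact hy
  · exact hc
  · exact hd

end Cfsg.Agent.Lib.Helper16.B54
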