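import Cfsg.Agent.Lib.Helper16.B54.Defs
import Cfsg.Agent.Lib.Helper16.B54.M3

set_option autoImplicit false

namespace Cfsg.Agent.Lib.Helper16.B54

open Cfsg.Agent.Lib.Helper89.TT54
open scoped commutatorElement

/-- [N1] -/
theorem range_normal {S : Type*} [Group S] (f : M54 →* S) (hf : Function.Injective f)
    (hinv : ∀ t : S, t * t = 1 → t ≠ 1 → t ∈ f.range) : f.range.Normal := by
  have hr : f.range = Subgroup.closure {t : S | t * t = 1 ∧ t ≠ 1} := by
    apply le_antisymm
    · rw [MonoidHom.range_eq_map, ← closure_invol, MonoidHom.map_closure, Subgroup.closure_le]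
      rintro _ ⟨t, ⟨ht1, ht2⟩, rfl⟩
      apply Subgroup.subset_closure
      refine ⟨by rw [← map_mul, ht1, map_one], fun h => ht2 (hf (by rw [h, map_one]))⟩
    · rw [Subgroup.closure_le]
      exact fun t ht => hinv t ht.1 ht.2
  rw [hr]
  constructor
  intro n hn g
  induction hn using Subgroup.closure_induction with
  | mem t ht =>
    apply Subgroup.subset_closure
    refine ⟨?_, ?_⟩
    · calc g * t * g⁻¹ * (g * t * g⁻¹) = g * (t * t) * g⁻¹ := by group
        _ = 1 := by rw [ht.1]; group
    · intro h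
      apply ht.2
      calc t = g⁻¹ * (g * t * g⁻¹) * g := by group
        _ = 1 := by rw [h]; group
  | one => simp
  | mul a b _ _ iha ihb =>
    have : g * (a * b) * g⁻¹ = (g * a * g⁻¹) * (g * b * g⁻¹) := by group
    rw [this]; exact mul_mem iha ihb
  | inv a _ iha =>
    have : g * a⁻¹ * g⁻¹ = (g * a * g⁻¹)⁻¹ := by group
    rw [this]; exact inv_mem iha

end Cfsg.Agent.Lib.Helper16.B54
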