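import Cfsg.Agent.Lib.Helper16.B54.Defs

set_option autoImplicit false

namespace Cfsg.Agent.Lib.Helper16.B54

open Cfsg.Agent.Lib.Helper89.TT54
open scoped commutatorElement

/-- [N2] -/
theorem commutator_le_of_index_four {S : Type*} [Group S] (N : Subgroup S) [N.Normal] (h : N.index = 4) :
    commutator S ≤ N := by
  have hcard : Nat.card (S ⧸ N) = 2 ^ 2 := by
    have h1 : Nat.card (S ⧸ N) = N.index := rfl
    rw [h1, h]; norm_num
  have hcomm : ∀ a b : S ⧸ N, a * b = b * a := by
    haveI : Fact (Nat.Prime 2) := ⟨Nat.prime_two⟩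
    exact (IsPGroup.isMulCommutative_of_card_eq_prime_sq hcard).is_comm.comm
  rw [commutator_def, Subgroup.commutator_le]
  intro a _ b _
  rw [← QuotientGroup.eq_one_iff, commutatorElement_def]
  simp only [QuotientGroup.mk_mul, QuotientGroup.mk_inv]
  rw [hcomm (a : S ⧸ N) b]
  group

end Cfsg.Agent.Lib.Helper16.B54
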