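import Cfsg.Agent.Lib.Helper16.B54.M1

set_option autoImplicit false

namespace Cfsg.Agent.Lib.Helper16.B54

/-- [N3] -/
theorem range_index {S : Type*} [Group S] (hS : Nat.card S = 216) (f : M54 →* S) (hf : Function.Injective f) :
    f.range.index = 4 := by
  have h1 : Nat.card f.range = 54 := by
    rw [← card_M54]
    exact (Nat.card_congr (MonoidHom.ofInjective hf).toEquiv).symm
  have h2 := f.range.card_mul_index
  rw [h1, hS] at h2
  omega

end Cfsg.Agent.Lib.Helper16.B54
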