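import Cfsg.Agent.Lib.Helper16.B54.Defs
import Cfsg.Agent.Lib.Helper16.B54.M2

set_option autoImplicit false

namespace Cfsg.Agent.Lib.Helper16.B54

open Cfsg.Agent.Lib.Helper89.TT54
open scoped commutatorElement

/-- [N4] -/
theorem range_le_commutator {S : Type*} [Group S] {x y c d u1 u2 : S} (h : Rel54 x y c d)
    (hu : u1 * u2 = d * u2 * u1) (f : M54 →* S) (hx : f X0 = x) (hy : f Y0 = y) (hc : f C0 = c) (hd : f D0 = d) :
    f.range ≤ commutator S := by
  obtain ⟨hx3, hy3, hc3, hd2, hxy, hcx, hcy, hcd, hdx, hdy⟩ := h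
  have hmem : ∀ a b : S, ⁅a, b⁆ ∈ commutator S := fun a b => by
    rw [commutator_def]
    exact Subgroup.commutator_mem_commutator (Subgroup.mem_top _) (Subgroup.mem_top _)
  have hdinv : d⁻¹ = d := inv_eq_of_mul_eq_one_left hd2
  have e1 : ⁅d, x⁆ = x := by
    rw [commutatorElement_def, hdinv, hdx]
    calc x⁻¹ * x⁻¹ = x⁻¹ * x⁻¹ * x ^ 3 := by rw [hx3, mul_one]
      _ = x := by group
  have e2 : ⁅d, y⁆ = y := by
    rw [commutatorElement_def, hdinv, hdy]
    calc y⁻¹ * y⁻¹ = y⁻¹ * y⁻¹ * y ^ 3 := by rw [hy3, mul_one]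
      _ = y := by group
  have e3 : ⁅x⁻¹, y⁻¹⁆ = c := by
    rw [commutatorElement_def, inv_inv, inv_inv]
    calc x⁻¹ * y⁻¹ * x * y = x⁻¹ * y⁻¹ * (x * y) := by group
      _ = x⁻¹ * y⁻¹ * (y * x * c) := by rw [hxy]
      _ = c := by group
  have e4 : ⁅u1, u2⁆ = d := by
    rw [commutatorElement_def, hu]
    group
  rw [MonoidHom.range_eq_map, ← closure_gens, MonoidHom.map_closure, Subgroup.closure_le]
  rintro _ ⟨a, ha, rfl⟩
  simp only [Set.mem_insert_iff, Set.mem_singleton_iff] at ha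
  rcases ha with rfl | rfl | rfl | rfl
  · show f X0 ∈ commutator S
    rw [hx, ← e1]; exact hmem _ _
  · show f Y0 ∈ commutator S
    rw [hy, ← e2]; exact hmem _ _
  · show f C0 ∈ commutator S
    rw [hc, ← e3]; exact hmem _ _
  · show f D0 ∈ commutator S
    rw [hd, ← e4]; exact hmem _ _

end Cfsg.Agent.Lib.Helper16.B54
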